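import Groth.Agent.Csa25.AzuDescent
import Mathlib.RingTheory.Etale.Pi
import Mathlib.RingTheory.Etale.Descent
import Mathlib.RingTheory.Spectrum.Prime.FreeLocus
import Mathlib.RingTheory.Finiteness.ModuleFinitePresentation
import Mathlib.Algebra.Central.Matrix
import Mathlib

/-! An algebra which is fppf-locally a product of two matrix algebras is Azumaya over its centre. -/

set_option autoImplicit false
set_option linter.style.haveILetI false

universe u w

open scoped TensorProduct
open TensorProduct

namespace Groth.Agent.SGA7II50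

section center

variable {R : Type u} [CommRing R] (S : Type u) [CommRing S] [Algebra R S] (B : Type w) [Ring B]
  [Algebra R B]

/-- The comparison map from the base change of the centre. -/
noncomputable def centerBC : S ⊗[R] Subalgebra.center R B →ₐ[S] S ⊗[R] B :=
  Algebra.TensorProduct.map (AlgHom.id S S) (Subalgebra.center R B).val

theorem centerBC_tmul (s : S) (z : Subalgebra.center R B) :
    centerBC S B (s ⊗ₜ z) = s ⊗ₜ (z : B) := rfl

theorem centerBC_injective [Module.Flat R S] : Function.Injective (centerBC (R := R) S B) :=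
  Module.Flat.lTensor_preserves_injective_linearMap (Subalgebra.center R B).val.toLinearMap
    Subtype.val_injective

theorem centerBC_mem (x : S ⊗[R] Subalgebra.center R B) :
    centerBC S B x ∈ Subalgebra.center S (S ⊗[R] B) := by
  induction x using TensorProduct.induction_on with
  | zero => rw [map_zero]; exact zero_mem _
  | tmul s z =>
    rw [centerBC_tmul, Subalgebra.mem_center_iff]
    intro y
    induction y using TensorProduct.induction_on with
    | zero => simp
    | tmul t b =>
      rw [Algebra.TensorProduct.tmul_mul_tmul, Algebra.TensorProduct.tmul_mul_tmul, mul_comm t,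
        Subalgebra.mem_center_iff.1 z.2 b]
    | add a b ha hb => rw [add_mul, mul_add, ha, hb]
  | add a b ha hb => rw [map_add]; exact add_mem ha hb

theorem exists_centerBC [Module.Flat R S] [Module.Finite R B] {y : S ⊗[R] B}
    (hy : y ∈ Subalgebra.center S (S ⊗[R] B)) : ∃ x, centerBC S B x = y := by
  obtain ⟨N, g, hg⟩ := Module.Finite.exists_fin (R := R) (M := B)
  let D : B →ₗ[R] (Fin N → B) :=
    LinearMap.pi fun i => LinearMap.mulLeft R (g i) - LinearMap.mulRight R (g i)
  have hker : LinearMap.ker D = Subalgebra.toSubmodule (Subalgebra.center R B) := by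
    ext z
    rw [LinearMap.mem_ker, Subalgebra.mem_toSubmodule, Subalgebra.mem_center_iff, funext_iff]
    simp only [D, LinearMap.pi_apply, LinearMap.sub_apply, LinearMap.mulLeft_apply,
      LinearMap.mulRight_apply, Pi.zero_apply, sub_eq_zero]
    refine ⟨fun h b => ?_, fun h i => h _⟩
    have hb : b ∈ Submodule.span R (Set.range g) := hg ▸ Submodule.mem_top
    induction hb using Submodule.span_induction with
    | mem b hb => obtain ⟨i, rfl⟩ := hb; exact h i
    | zero => simp
    | add a b _ _ ha hb => rw [add_mul, mul_add, ha, hb]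
    | smul r a _ ha => rw [smul_mul_assoc, mul_smul_comm, ha]
  have h0 : D.lTensor S y = 0 := by
    apply (TensorProduct.piRight R R S (fun _ : Fin N => B)).injective
    rw [map_zero]
    funext i
    have key : ∀ x : S ⊗[R] B, TensorProduct.piRight R R S (fun _ : Fin N => B) (D.lTensor S x) i =
        ((1 : S) ⊗ₜ[R] g i) * x - x * ((1 : S) ⊗ₜ[R] g i) := fun x => by
      induction x using TensorProduct.induction_on with
      | zero => simp
      | tmul s b => simp [D, tmul_sub, Algebra.TensorProduct.tmul_mul_tmul]
      | add a b ha hb => simp only [map_add, Pi.add_apply, ha, hb, mul_add, add_mul]; abel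
    rw [key, Subalgebra.mem_center_iff.1 hy ((1 : S) ⊗ₜ[R] g i), sub_self, Pi.zero_apply]
  obtain ⟨x, hx⟩ := (Module.Flat.lTensor_exact S (LinearMap.exact_subtype_ker_map D) y).1 h0
  refine ⟨(LinearMap.lTensor S (LinearEquiv.ofEq _ _ hker).toLinearMap) x, ?_⟩
  rw [← hx]
  show LinearMap.lTensor S (Subalgebra.center R B).val.toLinearMap _ = _
  rw [← LinearMap.comp_apply, ← LinearMap.lTensor_comp]
  rfl

end center

section split

variable {R : Type u} [CommRing R] {S : Type u} [CommRing S] [Algebra R S]
  [Module.FaithfullyFlat R S] {B : Type w} [Ring B] [Algebra R B]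
  {N : Type} [Fintype N] [DecidableEq N] [Nonempty N]
  (e : S ⊗[R] B ≃ₐ[S] Matrix N N S × Matrix N N S)

/-- Pairs of scalar matrices. -/
noncomputable def scalPair : S × S →ₐ[S] Matrix N N S × Matrix N N S :=
  AlgHom.prod ((Algebra.ofId S _).comp (AlgHom.fst S S S)) ((Algebra.ofId S _).comp (AlgHom.snd S S S))

omit [Nonempty N] in
theorem scalPair_apply (a b : S) :
    (scalPair (a, b) : Matrix N N S × Matrix N N S) =
      (algebraMap S (Matrix N N S) a, algebraMap S (Matrix N N S) b) := rfl

theorem scalPair_injective : Function.Injective (scalPair (N := N) (S := S)) := fun a b h => by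
  have inj : Function.Injective (algebraMap S (Matrix N N S)) := fun r s h => by
    have := congrFun (congrFun h (Classical.arbitrary N)) (Classical.arbitrary N)
    simpa [Matrix.algebraMap_matrix_apply] using this
  exact Prod.ext (inj (congrArg Prod.fst h)) (inj (congrArg Prod.snd h))

include e in
omit [Nonempty N] in
theorem finite_of_split : Module.Finite R B := by
  haveI : Module.Finite S (S ⊗[R] B) := Module.Finite.equiv e.symm.toLinearEquiv
  exact Module.Finite.of_finite_tensorProduct_of_faithfullyFlat S

/-- The image of the centre. -/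
noncomputable def centerToPairs : S ⊗[R] Subalgebra.center R B →ₐ[S] Matrix N N S × Matrix N N S :=
  e.toAlgHom.comp (centerBC S B)

theorem centerToPairs_range : (centerToPairs e).range = (scalPair (N := N) (S := S)).range := by
  haveI := finite_of_split e
  apply le_antisymm
  · rintro _ ⟨x, rfl⟩
    have hc : ∀ m, m * e (centerBC S B x) = e (centerBC S B x) * m := fun m => by
      obtain ⟨y, rfl⟩ := e.surjective m
      rw [← map_mul, ← map_mul, Subalgebra.mem_center_iff.1 (centerBC_mem S B x) y]
    have hc1 : (e (centerBC S B x)).1 ∈ Subalgebra.center S (Matrix N N S) :=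
      Subalgebra.mem_center_iff.2 fun m => congrArg Prod.fst (hc (m, 0))
    have hc2 : (e (centerBC S B x)).2 ∈ Subalgebra.center S (Matrix N N S) :=
      Subalgebra.mem_center_iff.2 fun m => congrArg Prod.snd (hc (0, m))
    rw [Algebra.IsCentral.center_eq_bot, Algebra.mem_bot] at hc1 hc2
    obtain ⟨a, ha⟩ := hc1
    obtain ⟨b, hb⟩ := hc2
    exact ⟨(a, b), Prod.ext ha hb⟩
  · rintro _ ⟨⟨a, b⟩, rfl⟩
    obtain ⟨x, hx⟩ := exists_centerBC S B (y := e.symm (scalPair (a, b))) (by
      rw [Subalgebra.mem_center_iff]
      intro y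
      apply e.injective
      rw [map_mul, map_mul, e.apply_symm_apply]
      exact Prod.ext (Algebra.commutes a _).symm (Algebra.commutes b _).symm)
    exact ⟨x, by
      show e (centerBC S B x) = scalPair (a, b)
      rw [hx, e.apply_symm_apply]⟩

/-- The split form of the centre. -/
noncomputable def centerEquiv : S ⊗[R] Subalgebra.center R B ≃ₐ[S] S × S :=
  ((AlgEquiv.ofInjective (centerToPairs e) (e.injective.comp (centerBC_injective S B))).trans
    (Subalgebra.equivOfEq _ _ (centerToPairs_range e))).trans
    (AlgEquiv.ofInjective scalPair scalPair_injective).symm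

theorem scalPair_centerEquiv (x : S ⊗[R] Subalgebra.center R B) :
    scalPair (centerEquiv e x) = e (centerBC S B x) := by
  have h := congrArg Subtype.val ((AlgEquiv.ofInjective (scalPair (N := N) (S := S))
    scalPair_injective).apply_symm_apply (Subalgebra.equivOfEq _ _ (centerToPairs_range e)
      (AlgEquiv.ofInjective (centerToPairs e) (e.injective.comp (centerBC_injective S B)) x)))
  exact h

theorem etale_prod (S : Type u) [CommRing S] : Algebra.Etale S (S × S) :=
  Algebra.Etale.of_equiv (AlgEquiv.ofRingEquiv (f := RingEquiv.piFinTwo fun _ => S) (fun _ => rfl) :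
    (Fin 2 → S) ≃ₐ[S] S × S)

include e in
theorem center_etale : Algebra.Etale R (Subalgebra.center R B) := by
  haveI := etale_prod S
  haveI : Algebra.Etale S (S ⊗[R] Subalgebra.center R B) := Algebra.Etale.of_equiv (centerEquiv e).symm
  exact Algebra.Etale.of_etale_tensorProduct_of_faithfullyFlat S

include e in
theorem center_finite : Module.Finite R (Subalgebra.center R B) := by
  haveI : Module.Finite S (S ⊗[R] Subalgebra.center R B) :=
    Module.Finite.equiv (centerEquiv e).symm.toLinearEquiv
  exact Module.Finite.of_finite_tensorProduct_of_faithfullyFlat S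

include e in
theorem center_projective : Module.Projective R (Subalgebra.center R B) := by
  haveI := center_finite e
  haveI := center_etale e
  haveI : Module.Flat S (S ⊗[R] Subalgebra.center R B) := Module.Flat.of_linearEquiv (centerEquiv e).toLinearEquiv
  haveI : Module.Flat R (Subalgebra.center R B) := Module.Flat.of_flat_tensorProduct R _ S
  haveI : Module.FinitePresentation R (Subalgebra.center R B) :=
    Module.FinitePresentation.of_finite_of_finitePresentation R _
  exact Module.Flat.projective_of_finitePresentation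

include e in
theorem center_rank (p : PrimeSpectrum R) :
    Module.rankAtStalk (Subalgebra.center R B) p = 2 := by
  haveI := center_finite e
  haveI := center_projective e
  obtain ⟨q, rfl⟩ := PrimeSpectrum.comap_surjective_of_faithfullyFlat (B := S) p
  haveI : Nontrivial S := ⟨⟨0, 1, fun h => q.2.ne_top (q.asIdeal.eq_top_iff_one.2 (h ▸ q.asIdeal.zero_mem))⟩⟩
  rw [← Module.rankAtStalk_baseChange, Module.rankAtStalk_eq_of_equiv (centerEquiv e).toLinearEquiv,
    Module.rankAtStalk_eq_finrank_of_free, Module.finrank_prod, Module.finrank_self]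
  rfl

theorem azumaya_of_split (Z : Type w) [CommRing Z] [Algebra R Z] [Algebra Z B]
    (hT : ∀ r, algebraMap R B r = algebraMap Z B (algebraMap R Z r))
    (π : S ⊗[R] Z ≃ₐ[S] S × S)
    (hπ : ∀ z : Z, scalPair (π ((1 : S) ⊗ₜ[R] z)) = e ((1 : S) ⊗ₜ[R] algebraMap Z B z)) :
    IsAzumaya Z B := by
  haveI : IsScalarTower R Z B := IsScalarTower.of_algebraMap_eq hT
  let κ : Z →+* S × S := π.toAlgHom.toRingHom.comp (Algebra.TensorProduct.includeRight : Z →ₐ[R] S ⊗[R] Z).toRingHom
  letI : Algebra Z (S × S) := κ.toAlgebra
  have hκ : ∀ z : Z, algebraMap Z (S × S) z = π (1 ⊗ₜ z) := fun z => rfl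
  -- `S × S` is faithfully flat over the centre
  let ρ : (Z ⊗[R] S) ≃ₐ[Z] S × S :=
    AlgEquiv.ofRingEquiv (f := (Algebra.TensorProduct.comm R Z S).toRingEquiv.trans π.toRingEquiv)
      fun z => rfl
  haveI : Module.FaithfullyFlat Z (S × S) := Module.FaithfullyFlat.of_linearEquiv _ _ ρ.symm.toLinearEquiv
  haveI : IsScalarTower R Z (S × S) := IsScalarTower.of_algebraMap_eq fun r => by
    rw [hκ, show (1 : S) ⊗ₜ[R] algebraMap R Z r = algebraMap R (S ⊗[R] Z) r from
      ((Algebra.TensorProduct.includeRight : Z →ₐ[R] S ⊗[R] Z).commutes r),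
      IsScalarTower.algebraMap_apply R S (S ⊗[R] Z), AlgEquiv.commutes, ← IsScalarTower.algebraMap_apply]
  -- matrices over `S × S`
  let σ : Matrix N N S × Matrix N N S ≃+* Matrix N N (S × S) :=
    { toFun := fun m => Matrix.of fun i j => (m.1 i j, m.2 i j)
      invFun := fun m => (m.map Prod.fst, m.map Prod.snd)
      left_inv := fun m => rfl
      right_inv := fun m => rfl
      map_mul' := fun a b => by
        ext i j <;> simp [Matrix.mul_apply, Prod.fst_sum, Prod.snd_sum]
      map_add' := fun a b => rfl }
  have hσ : ∀ a b : S, σ (scalPair (a, b)) = algebraMap (S × S) (Matrix N N (S × S)) (a, b) := fun a b => by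
    ext i j <;> by_cases h : i = j <;> simp [σ, scalPair_apply, Matrix.algebraMap_matrix_apply, h]
  have hZ : ∀ z : Z, σ (e ((1 : S) ⊗ₜ[R] (algebraMap Z B z))) = algebraMap Z (Matrix N N (S × S)) z := fun z => by
    rw [IsScalarTower.algebraMap_apply Z (S × S) (Matrix N N (S × S)), hκ, ← hπ, hσ]
  let f : B →ₐ[Z] Matrix N N (S × S) :=
    { toRingHom := σ.toRingHom.comp (e.toAlgHom.toRingHom.comp
        (Algebra.TensorProduct.includeRight : B →ₐ[R] S ⊗[R] B).toRingHom)
      commutes' := fun z => hZ z }
  have hf : ∀ b, f b = σ (e ((1 : S) ⊗ₜ[R] b)) := fun b => rfl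
  let L : (S × S) ⊗[Z] B →ₐ[S × S] Matrix N N (S × S) :=
    Algebra.TensorProduct.lift (Algebra.ofId (S × S) _) f fun s b => Algebra.commutes s _
  let g : S ⊗[R] B →+ (S × S) ⊗[Z] B :=
    (TensorProduct.liftAddHom
      ({ toFun := fun s =>
          { toFun := fun b => (s, s) ⊗ₜ[Z] b
            map_zero' := tmul_zero _ _
            map_add' := fun a b => tmul_add _ a b }
         map_zero' := AddMonoidHom.ext fun b => by
           show ((0 : S), (0 : S)) ⊗ₜ[Z] b = 0
           exact zero_tmul (S × S) b
         map_add' := fun a c => AddMonoidHom.ext fun b => add_tmul (a, a) (c, c) b } : S →+ B →+ _)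
      fun r s b => by
        show (r • (s, s)) ⊗ₜ[Z] b = (s, s) ⊗ₜ[Z] (r • b)
        rw [← algebraMap_smul Z r (s, s), smul_tmul, algebraMap_smul])
  have hg : ∀ s b, g (s ⊗ₜ b) = (s, s) ⊗ₜ[Z] b := fun s b => rfl
  have hLg : ∀ x, L (g x) = σ (e x) := fun x => by
    induction x using TensorProduct.induction_on with
    | zero => simp
    | tmul s b =>
      rw [hg, Algebra.TensorProduct.lift_tmul, hf, Algebra.ofId_apply, ← hσ, ← map_mul]
      congr 1
      rw [show (scalPair (s, s) : Matrix N N S × Matrix N N S) = algebraMap S _ s from rfl,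
        ← Algebra.smul_def, ← map_smul, smul_tmul', smul_eq_mul, mul_one]
    | add a b ha hb => rw [map_add, map_add, map_add, map_add, ha, hb]
  have hgsurj : Function.Surjective g := by
    intro y
    induction y using TensorProduct.induction_on with
    | zero => exact ⟨0, map_zero g⟩
    | tmul w b =>
      obtain ⟨v, rfl⟩ := π.surjective w
      induction v using TensorProduct.induction_on with
      | zero => exact ⟨0, by rw [map_zero g, map_zero π, zero_tmul]⟩
      | tmul s z =>
        refine ⟨s ⊗ₜ ((algebraMap Z B z) * b), ?_⟩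
        rw [hg, show (algebraMap Z B z) * b = z • b from (Algebra.smul_def z b).symm, ← smul_tmul]
        congr 1
        rw [Algebra.smul_def, hκ, mul_comm,
          show ((s, s) : S × S) = π (algebraMap S (S ⊗[R] Z) s) from (π.commutes s).symm, ← map_mul]
        congr 1
        rw [Algebra.TensorProduct.algebraMap_apply, Algebra.TensorProduct.tmul_mul_tmul]
        simp
      | add a c ha hc =>
        obtain ⟨x, hx⟩ := ha
        obtain ⟨y, hy⟩ := hc
        exact ⟨x + y, by rw [map_add, hx, hy, map_add, add_tmul]⟩
    | add a c ha hc =>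
      obtain ⟨x, rfl⟩ := ha
      obtain ⟨y, rfl⟩ := hc
      exact ⟨x + y, map_add g x y⟩
  have hLg_bij : Function.Bijective (L ∘ g) := by
    rw [show (L ∘ g : S ⊗[R] B → _) = σ ∘ e from funext hLg]
    exact σ.bijective.comp e.bijective
  have hL : Function.Bijective L :=
    ⟨(Function.Bijective.of_comp_iff L ⟨hLg_bij.1.of_comp, hgsurj⟩).1 hLg_bij |>.1, hLg_bij.2.of_comp⟩
  haveI : IsAzumaya (S × S) (Matrix N N (S × S)) := IsAzumaya.matrix (S × S) N
  haveI : IsAzumaya (S × S) ((S × S) ⊗[Z] B) :=
    IsAzumaya.of_AlgEquiv (S × S) (Matrix N N (S × S)) ((S × S) ⊗[Z] B) (AlgEquiv.ofBijective L hL).symm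
  exact Csa25.isAzumaya_of_faithfullyFlat Z (S × S) B

include e in
theorem center_azumaya :
    letI : Algebra ↥(Subalgebra.center R B) B :=
      (Subalgebra.center R B).val.toRingHom.toAlgebra'
        (fun c x => (Subalgebra.mem_center_iff.mp c.2 x).symm)
    IsAzumaya ↥(Subalgebra.center R B) B :=
  letI : Algebra ↥(Subalgebra.center R B) B :=
    (Subalgebra.center R B).val.toRingHom.toAlgebra'
      (fun c x => (Subalgebra.mem_center_iff.mp c.2 x).symm)
  azumaya_of_split e ↥(Subalgebra.center R B) (fun _ => rfl) (centerEquiv e) fun z => scalPair_centerEquiv e _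

end split

end Groth.Agent.SGA7II50
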