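import Mathlib.RingTheory.Derivation.Basic
import Mathlib.RingTheory.IntegralClosure.IsIntegralClosure.Basic
import Mathlib.RingTheory.Localization.Integral
import Mathlib.Algebra.TrivSqZeroExt.Basic
import Mathlib.RingTheory.Noetherian.Basic
import Mathlib.Algebra.CharP.Algebra

/-! Seidenberg's theorem: derivations preserve integral closures in characteristic zero. -/

set_option autoImplicit false

universe u

open Finset

namespace Groth.Agent.SGA7II50

section identity

variable {k K : Type u} [CommRing k] [CommRing K] [Algebra k K] (D : Derivation k K K) (x : K)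

/-- The iterated commutator of `D^m` with multiplication by `x`, applied to `w`. -/
def comm (n m : ℕ) (w : K) : K :=
  ∑ i ∈ range (n + 1), (n.choose i : K) * (-x) ^ (n - i) * (⇑D)^[m] (x ^ i * w)

theorem comm_zero_right (n : ℕ) (w : K) : comm D x n 0 w = 0 ^ n * w := by
  rw [comm, ← show (x + -x) = 0 from add_neg_cancel x, add_pow, Finset.sum_mul]
  refine Finset.sum_congr rfl fun i _ => ?_
  simp only [Function.iterate_zero, id_eq]
  ring

theorem iterate_map_add (m : ℕ) (a b : K) : (⇑D)^[m] (a + b) = (⇑D)^[m] a + (⇑D)^[m] b := by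
  induction m generalizing a b with
  | zero => rfl
  | succ m ih => simp only [Function.iterate_succ, Function.comp_apply, map_add, ih]

theorem iterate_map_natCast_mul (m j : ℕ) (a : K) :
    (⇑D)^[m] ((j : K) * a) = (j : K) * (⇑D)^[m] a := by
  induction m generalizing a with
  | zero => rfl
  | succ m ih =>
    simp only [Function.iterate_succ, Function.comp_apply]
    rw [show D ((j : K) * a) = (j : K) * D a by simp [Derivation.leibniz], ih]

theorem comm_succ_right (n m : ℕ) (w : K) :
    comm D x (n + 1) (m + 1) w =
      comm D x (n + 1) m (D w) + ((n + 1 : ℕ) : K) * comm D x n m (D x * w) := by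
  have e : ∀ i : ℕ, (⇑D)^[m + 1] (x ^ i * w) =
      (⇑D)^[m] (x ^ i * D w) + (i : K) * (⇑D)^[m] (x ^ (i - 1) * (D x * w)) := fun i => by
    rw [Function.iterate_succ_apply, ← iterate_map_natCast_mul, ← iterate_map_add]
    congr 1
    rw [Derivation.leibniz, Derivation.leibniz_pow]
    simp only [smul_eq_mul, nsmul_eq_mul]
    ring
  simp only [comm, e, mul_add, Finset.sum_add_distrib]
  congr 1
  rw [Finset.sum_range_succ', Nat.cast_zero, zero_mul, mul_zero, add_zero, Finset.mul_sum]
  refine Finset.sum_congr rfl fun i _ => ?_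
  have h : ((n + 1).choose (i + 1) : K) * ((i + 1 : ℕ) : K) = ((n + 1 : ℕ) : K) * (n.choose i : K) := by
    rw [← Nat.cast_mul, ← Nat.cast_mul, Nat.add_one_mul_choose_eq]
  rw [Nat.add_sub_add_right, Nat.add_sub_cancel]
  linear_combination ((-x) ^ (n - i) * (⇑D)^[m] (x ^ i * (D x * w))) * h

theorem comm_spec (m : ℕ) :
    (∀ n, m < n → ∀ w, comm D x n m w = 0) ∧
      ∀ w, comm D x m m w = (m.factorial : K) * (D x) ^ m * w := by
  induction m with
  | zero =>
    refine ⟨fun n hn w => ?_, fun w => ?_⟩
    · rw [comm_zero_right, zero_pow hn.ne', zero_mul]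
    · rw [comm_zero_right]; simp
  | succ m ih =>
    refine ⟨fun n hn w => ?_, fun w => ?_⟩
    · obtain ⟨n, rfl⟩ : ∃ n', n = n' + 1 := ⟨n - 1, by omega⟩
      rw [comm_succ_right, ih.1 _ (by omega), ih.1 _ (by omega), mul_zero, add_zero]
    · rw [comm_succ_right, ih.1 _ (by omega), ih.2, Nat.factorial_succ]
      push_cast
      ring

end identity

section extend

variable {k A K : Type u} [CommRing k] [CommRing A] [CommRing K] [Algebra k A] [Algebra A K]
  [Algebra k K] [IsScalarTower k A K]

open TrivSqZeroExt in
/-- Derivations extend to localizations. -/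
theorem exists_derivation_localization (M : Submonoid A) [IsLocalization M K] (D : Derivation k A A) :
    ∃ E : Derivation k K K, ∀ a, E (algebraMap A K a) = algebraMap A K (D a) := by
  let g : A →+* TrivSqZeroExt K K :=
    { toFun := fun a => inl (algebraMap A K a) + inr (algebraMap A K (D a))
      map_one' := by ext <;> simp
      map_zero' := by ext <;> simp
      map_mul' := fun a b => by
        ext
        · simp
        · simp [Derivation.leibniz, MulOpposite.smul_eq_mul_unop]; ring
      map_add' := fun a b => by ext <;> simp }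
  have hg : ∀ y : M, IsUnit (g y) := fun y => by
    rw [isUnit_iff_isUnit_fst]
    simpa [g] using IsLocalization.map_units K y
  let L : K →+* TrivSqZeroExt K K := IsLocalization.lift hg
  have h1 : ∀ z, fst (L z) = z := by
    have : ((fstHom K K K : TrivSqZeroExt K K →ₐ[K] K) : TrivSqZeroExt K K →+* K).comp L = RingHom.id K :=
      IsLocalization.ringHom_ext M (by ext a; simp [L, g, fstHom, IsLocalization.lift_eq])
    exact fun z => RingHom.congr_fun this z
  have hA : ∀ a, snd (L (algebraMap A K a)) = algebraMap A K (D a) := fun a => by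
    simp [L, g, IsLocalization.lift_eq]
  have hmul : ∀ a b, snd (L (a * b)) = a * snd (L b) + b * snd (L a) := fun a b => by
    rw [map_mul, snd_mul, h1, h1]
    simp [MulOpposite.smul_eq_mul_unop, mul_comm]
  refine ⟨Derivation.mk'
    { toFun := fun z => snd (L z)
      map_add' := fun a b => by rw [map_add, snd_add]
      map_smul' := fun c z => ?_ } hmul, hA⟩
  rw [Algebra.smul_def, hmul, IsScalarTower.algebraMap_apply k A K, hA, D.map_algebraMap,
    map_zero, mul_zero, add_zero, RingHom.id_apply, Algebra.smul_def, ← IsScalarTower.algebraMap_apply]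

end extend

section integral

variable {k A K : Type u} [CommRing k] [CommRing A] [CommRing K] [Algebra k A] [Algebra A K]
  [Algebra k K] [IsScalarTower k A K]

omit [IsScalarTower k A K] in
theorem iterate_algebraMap {D : Derivation k A A} {E : Derivation k K K}
    (h : ∀ a, E (algebraMap A K a) = algebraMap A K (D a)) (m : ℕ) (a : A) :
    (⇑E)^[m] (algebraMap A K a) = algebraMap A K ((⇑D)^[m] a) := by
  induction m generalizing a with
  | zero => rfl
  | succ m ih => simp only [Function.iterate_succ, Function.comp_apply, h, ih]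

theorem isIntegral_derivation (M : Submonoid A) [IsLocalization M K] [IsNoetherianRing A] (hfac : ∀ n : ℕ, IsUnit (n.factorial : A)) {D : Derivation k A A}
    {E : Derivation k K K} (h : ∀ a, E (algebraMap A K a) = algebraMap A K (D a)) {x : K}
    (hx : IsIntegral A x) : IsIntegral A (E x) := by
  classical
  obtain ⟨p, hp, hp0⟩ := hx
  obtain ⟨e, he⟩ := IsLocalization.exist_integer_multiples M (range p.natDegree)
    (fun i : ℕ => x ^ i)
  let S : Subalgebra A K := Algebra.adjoin A {x}
  have hS : ∀ z ∈ S, ∃ a, algebraMap A K a = algebraMap A K (e : A) * z := by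
    intro z hz
    have hz' : z ∈ Subalgebra.toSubmodule S := hz
    rw [show S = Algebra.adjoin A {x} from rfl,
      ← Submodule.span_range_natDegree_eq_adjoin hp (by rwa [Polynomial.aeval_def])] at hz'
    clear hz
    induction hz' using Submodule.span_induction with
    | mem z hz =>
      rw [Finset.mem_coe, Finset.mem_image] at hz
      obtain ⟨i, hi, rfl⟩ := hz
      obtain ⟨a, ha⟩ := he i (by simpa using hi)
      exact ⟨a, by rw [ha, Algebra.smul_def]⟩
    | zero => exact ⟨0, by simp⟩
    | add a b _ _ ha hb =>
      obtain ⟨a', ha⟩ := ha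
      obtain ⟨b', hb⟩ := hb
      exact ⟨a' + b', by rw [map_add, ha, hb, mul_add]⟩
    | smul c z _ hz =>
      obtain ⟨a, ha⟩ := hz
      exact ⟨c * a, by rw [map_mul, ha, Algebra.smul_def]; ring⟩
  let c : K := algebraMap A K (e : A) * algebraMap A K (e : A)
  have key : ∀ n : ℕ, ∃ a, algebraMap A K a = c * E x ^ n := fun n => by
    have hc := (comm_spec E x n).2 (algebraMap A K (e : A))
    obtain ⟨a, ha⟩ : ∃ a, algebraMap A K a =
        algebraMap A K (e : A) * comm E x n n (algebraMap A K (e : A)) := by
      refine RingHom.mem_range.1 ?_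
      rw [comm, Finset.mul_sum]
      refine Subring.sum_mem _ fun i _ => ?_
      obtain ⟨a, ha⟩ := hS (x ^ i) (pow_mem (Algebra.self_mem_adjoin_singleton A x) i)
      rw [show x ^ i * algebraMap A K (e : A) = algebraMap A K a by rw [ha, mul_comm],
        iterate_algebraMap h, ← mul_assoc]
      refine Subring.mul_mem _ (RingHom.mem_range.2 ?_) ⟨_, rfl⟩
      exact hS _ (Subalgebra.mul_mem _ (Subalgebra.natCast_mem _ _)
        (pow_mem (Subalgebra.neg_mem _ (Algebra.self_mem_adjoin_singleton A x)) _))
    refine ⟨((hfac n).unit⁻¹ : Aˣ) * a, ?_⟩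
    rw [map_mul, ha, hc, show ((n.factorial : ℕ) : K) = algebraMap A K (n.factorial : A) by simp]
    have hu : algebraMap A K ((hfac n).unit⁻¹ : Aˣ) * algebraMap A K (n.factorial : A) = 1 := by
      rw [← map_mul, IsUnit.val_inv_mul, map_one]
    linear_combination (c * E x ^ n) * hu
  have hu : IsUnit c := (IsLocalization.map_units K e).mul (IsLocalization.map_units K e)
  have hle : Subalgebra.toSubmodule (Algebra.adjoin A {E x}) ≤
      (Submodule.span A {((hu.unit⁻¹ : Kˣ) : K)}) := by
    rw [Algebra.adjoin_singleton_eq_range_aeval]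
    rintro _ ⟨q, rfl⟩
    induction q using Polynomial.induction_on' with
    | add q r hq hr => rw [map_add]; exact add_mem hq hr
    | monomial n a =>
      obtain ⟨b, hb⟩ := key n
      refine Submodule.mem_span_singleton.2 ⟨a * b, ?_⟩
      show _ = Polynomial.aeval (E x) (Polynomial.monomial n a)
      rw [Polynomial.aeval_monomial, Algebra.smul_def, map_mul, hb]
      linear_combination (algebraMap A K a * E x ^ n) * hu.mul_val_inv
  exact IsIntegral.of_mem_of_fg _ (Submodule.FG.of_le (Submodule.fg_span_singleton _) hle) _
    (Algebra.self_mem_adjoin_singleton A (E x))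

end integral

end Groth.Agent.SGA7II50
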